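import Groth.Prelude.Def_ARSys
import Mathlib.CategoryTheory.Linear.LinearFunctor

/-!
Left adjoints of linear functors preserve quotients modulo an ideal and adic systems.
-/

set_option autoImplicit false
universe w v v' u u'

open CategoryTheory CategoryTheory.Limits Opposite

namespace Groth.Agent.H18Adic

variable {A : Type w} [CommRing A] {C : Type u} [Category.{v} C] [Preadditive C] [Linear A C]
  {D : Type u'} [Category.{v'} D] [Preadditive D] [Linear A D]
  {L : C ⥤ D} {R : D ⥤ C} (adj : L ⊣ R) [R.Additive] [R.Linear A]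

include adj in
theorem homEquiv_smul {X : C} {Y : D} (a : A) (φ : L.obj X ⟶ Y) :
    adj.homEquiv X Y (a • φ) = a • adj.homEquiv X Y φ := by
  rw [adj.homEquiv_unit, adj.homEquiv_unit, R.map_smul, Linear.comp_smul]

include adj in
theorem homEquiv_zero {X : C} {Y : D} : adj.homEquiv X Y 0 = 0 := by
  rw [adj.homEquiv_unit, R.map_zero, comp_zero]

include adj in
theorem killedBy_map {J : Ideal A} {Q : C} (h : ARSys.KilledBy J Q) : ARSys.KilledBy J (L.obj Q) := fun a ha => by
  refine (adj.homEquiv Q (L.obj Q)).injective ?_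
  rw [homEquiv_smul adj, homEquiv_zero adj, ← Category.id_comp (adj.homEquiv Q (L.obj Q) (𝟙 _)),
    ← Linear.smul_comp, h a ha, zero_comp]

include adj in
theorem isQuot_map {J : Ideal A} {X Q : C} {p : X ⟶ Q} (h : ARSys.IsQuot J p) : ARSys.IsQuot J (L.map p) := by
  refine ⟨killedBy_map adj h.1, fun Z φ hφ => ?_⟩
  obtain ⟨w, hw, huniq⟩ := h.2 (R.obj Z) (adj.homEquiv X Z φ) fun a ha => by
    rw [← homEquiv_smul adj, hφ a ha, homEquiv_zero adj]
  refine ⟨(adj.homEquiv Q Z).symm w, ?_, fun w' hw' => ?_⟩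
  · show L.map p ≫ (adj.homEquiv Q Z).symm w = φ
    rw [← adj.homEquiv_naturality_left_symm, hw, Equiv.symm_apply_apply]
  · rw [Equiv.eq_symm_apply]
    refine huniq _ ?_
    show p ≫ adj.homEquiv Q Z w' = _
    rw [← adj.homEquiv_naturality_left, hw']

include adj in
theorem isAdic_comp {J : Ideal A} {G : ℕᵒᵖ ⥤ C} (h : ARSys.IsAdic J G) : ARSys.IsAdic J (G ⋙ L) :=
  ⟨fun n => killedBy_map adj (h.1 n), fun n m hm => isQuot_map adj (h.2 n m hm)⟩

end Groth.Agent.H18Adic
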