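import Groth.Agent.H18Adic.LimitTower
import Groth.Agent.H1DC.Sheaves
import Groth.Agent.S14017
import Groth.Prelude.Def_ARSys

/-!
The limit of an adic system of pro-étale sheaves of modules.
-/

set_option autoImplicit false
set_option backward.isDefEq.respectTransparency false
universe u

open CategoryTheory CategoryTheory.Limits AlgebraicGeometry Opposite

namespace Groth.Agent.H18Adic

variable {Λ : Type (u + 1)} [CommRing Λ] {X : Scheme.{u}}

/-- Sections over an object, as a functor. -/
noncomputable abbrev secF (V : X.ProEt) : EtModW.ModP Λ X ⥤ ModuleCat.{u + 1} Λ :=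
  sheafToPresheaf (Scheme.ProEt.topology X) (ModuleCat.{u + 1} Λ) ⋙
    (evaluation _ (ModuleCat.{u + 1} Λ)).obj (op V)

theorem epi_of_isQuot {I : Ideal Λ} {A Q : EtModW.ModP Λ X} {p : A ⟶ Q} (hp : ARSys.IsQuot I p) : Epi p :=
  ⟨fun {Z} a b hab => by
    obtain ⟨w, -, huniq⟩ := hp.2 Z (p ≫ a) (fun c hc => by
      rw [← Linear.smul_comp, ← Category.comp_id p, ← Linear.comp_smul, hp.1 c hc, comp_zero, zero_comp])
    exact (huniq a rfl).trans (huniq b hab.symm).symm⟩

theorem exists_kernel_section {A B : EtModW.ModP Λ X} (φ : A ⟶ B) (V : X.ProEt) (x : (secF V).obj A)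
    (hx : ((secF V).map φ).hom x = 0) : ∃ z, ((secF V).map (kernel.ι φ)).hom z = x := by
  let S : ShortComplex (EtModW.ModP Λ X) := ShortComplex.mk (kernel.ι φ) φ (kernel.condition φ)
  haveI : (secF (Λ := Λ) V).PreservesZeroMorphisms := ⟨fun _ _ => rfl⟩
  have hex := (ShortComplex.exact_of_f_is_kernel S (kernelIsKernel φ)).map_of_mono_of_preservesKernel (secF V)
    (inferInstanceAs (Mono (kernel.ι φ))) inferInstance
  exact (ShortComplex.moduleCat_exact_iff _).1 hex x hx

/-- A morphism vanishing on weakly contractible affine objects is zero. -/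
theorem eq_zero_of_wc {A B : EtModW.ModP Λ X} (φ : A ⟶ B)
    (h : ∀ V : X.ProEt, IsAffine V.left → ProEtS.IsWC V → ∀ x : (secF V).obj A, ((secF V).map φ).hom x = 0) :
    φ = 0 := by
  haveI : Epi (kernel.ι φ) := H1DC.epi_of_surjective _ fun V hV hw x => exists_kernel_section φ V x (h V hV hw x)
  rw [← cancel_epi (kernel.ι φ), kernel.condition, comp_zero]

variable (G : ℕᵒᵖ ⥤ EtModW.ModP Λ X)

theorem isQuot_limit_π (I : Ideal Λ) (hI : I.FG) (hG : ARSys.IsAdic I G) (n : ℕ) :
    ARSys.IsQuot (I ^ (n + 1)) (limit.π G (op n)) := by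
  have hV : ∀ V : X.ProEt, ProEtS.IsWC V → Function.Surjective ((secF V).map (limit.π G (op n))).hom ∧
      ∀ x, ((secF V).map (limit.π G (op n))).hom x = 0 →
        x ∈ I ^ (n + 1) • (⊤ : Submodule Λ ((secF V).obj (limit G))) := by
    intro V hV
    let N := G ⋙ secF V
    let π : ∀ j : ℕ, (secF V).obj (limit G) →ₗ[Λ] N.obj (op j) := fun j => ((secF V).map (limit.π G (op j))).hom
    have hπ : ∀ (j m : ℕ) (h : j ≤ m) (x : (secF V).obj (limit G)), tm N h (π m x) = π j x := fun j m h x => by
      have e := congrArg (fun f => ((secF V).map f).hom x) (limit.w G (homOfLE h).op)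
      simp only [Functor.map_comp] at e
      exact e
    let hl := Types.isLimitEquivSections (isLimitOfPreserves (secF V ⋙ forget (ModuleCat.{u + 1} Λ)) (limit.isLimit G))
    have hglue : ∀ s : ∀ j, N.obj (op j), (∀ (j m : ℕ) (h : j ≤ m), tm N h (s m) = s j) → ∃ x, ∀ j, π j x = s j := by
      intro s hs
      let σ : (G ⋙ secF V ⋙ forget (ModuleCat.{u + 1} Λ)).sections := ⟨fun j => s j.unop, fun {j m} f => hs _ _ (leOfHom f.unop)⟩
      exact ⟨hl.symm σ, fun j => congrFun (congrArg Subtype.val (hl.apply_symm_apply σ)) (op j)⟩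
    have hsep : ∀ x, (∀ j, π j x = 0) → x = 0 := fun x hx =>
      hl.injective (Subtype.ext (funext fun j => (hx j.unop).trans (LinearMap.map_zero (π j.unop)).symm))
    have hq : ∀ (j m : ℕ) (h : j ≤ m), Function.Surjective (tm N h) ∧
        LinearMap.ker (tm N h) = I ^ (j + 1) • (⊤ : Submodule Λ (N.obj (op m))) := fun j m h =>
      Groth.Agent.S14017.result Λ (I ^ (j + 1)) (hI.pow) X _ _ (ARSys.tr G h) (hG.2 j m h) V hV
    refine ⟨surjective_π N _ π hglue (fun j => (hq j _ (Nat.le_succ j)).1) n, fun x hx => ?_⟩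
    refine mem_smul_of_eq_zero I N _ π hπ hglue hsep (fun j => (hq j _ (Nat.le_succ j)).1) hI ?_ ?_ n x hx
    · intro j c hc z
      have e := congrArg (fun f => ((secF V).map f).hom z) (hG.1 j c hc)
      exact e
    · intro j m h z hz
      exact (hq j m h).2.le hz
  haveI : Epi (limit.π G (op n)) := H1DC.epi_of_surjective _ fun V _ hw => (hV V hw).1
  refine ⟨hG.1 n, fun Z φ hφ => ?_⟩
  have h0 : kernel.ι (limit.π G (op n)) ≫ φ = 0 := eq_zero_of_wc _ fun V _ hw z => by
    have hz : ((secF V).map (limit.π G (op n))).hom (((secF V).map (kernel.ι (limit.π G (op n)))).hom z) = 0 := by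
      have e := congrArg (fun f => ((secF V).map f).hom z) (kernel.condition (limit.π G (op n)))
      simp only [Functor.map_comp] at e
      exact e
    rw [Functor.map_comp]
    change ((secF V).map φ).hom _ = 0
    refine Submodule.smul_induction_on ((hV V hw).2 _ hz) (fun c hc u _ => ?_) (fun u v hu hv => ?_)
    · rw [map_smul]
      exact congrArg (fun f => ((secF V).map f).hom u) (hφ c hc)
    · rw [map_add, hu, hv, add_zero]
  have hc := (ShortComplex.exact_of_f_is_kernel (ShortComplex.mk _ _ (kernel.condition (limit.π G (op n))))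
    (kernelIsKernel _)).gIsCokernel
  refine ⟨hc.desc (CokernelCofork.ofπ φ h0), hc.fac (CokernelCofork.ofπ φ h0) WalkingParallelPair.one, fun w hw => ?_⟩
  rw [← cancel_epi (limit.π G (op n)), hw]
  exact (hc.fac (CokernelCofork.ofπ φ h0) WalkingParallelPair.one).symm

end Groth.Agent.H18Adic
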