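import Mathlib.RingTheory.Finiteness.Ideal
import Mathlib.Algebra.Category.ModuleCat.Basic
import Mathlib.CategoryTheory.Limits.Types.Limits
import Mathlib.CategoryTheory.ConcreteCategory.Basic

/-!
The limit of an adic tower of modules along a finitely generated ideal.
-/

set_option autoImplicit false
universe w

open CategoryTheory Opposite

namespace Groth.Agent.H18Adic

variable {Λ : Type w} [CommRing Λ] (I : Ideal Λ) (N : ℕᵒᵖ ⥤ ModuleCat.{w} Λ) (M : ModuleCat.{w} Λ)
  (π : ∀ j : ℕ, M →ₗ[Λ] N.obj (op j))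

/-- The transition map. -/
abbrev tm {j m : ℕ} (h : j ≤ m) : N.obj (op m) →ₗ[Λ] N.obj (op j) := (N.map (homOfLE h).op).hom

theorem tm_tm {i j m : ℕ} (h : i ≤ j) (h' : j ≤ m) (x : N.obj (op m)) :
    tm N h (tm N h' x) = tm N (h.trans h') x := by
  change ((N.map (homOfLE h').op ≫ N.map (homOfLE h).op)).hom x = _
  rw [← N.map_comp]
  rfl

theorem tm_self {j : ℕ} (x : N.obj (op j)) : tm N le_rfl x = x := by
  change (N.map (𝟙 _)).hom x = x
  rw [N.map_id]
  rfl

theorem mem_span_range_smul {P : Type*} [AddCommGroup P] [Module Λ P] {r : ℕ} (f : Fin r → Λ)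
    (S : Submodule Λ P) {z : P} (hz : z ∈ Ideal.span (Set.range f) • S) :
    ∃ a : Fin r → P, (∀ i, a i ∈ S) ∧ ∑ i, f i • a i = z := by
  refine Submodule.smul_induction_on hz (fun c hc s hs => ?_) ?_
  · obtain ⟨d, rfl⟩ := Ideal.mem_span_range_iff_exists_fun.1 hc
    exact ⟨fun i => d i • s, fun i => S.smul_mem _ hs,
      by rw [Finset.sum_smul]; exact Finset.sum_congr rfl fun i _ => by rw [smul_smul, mul_comm]⟩
  · rintro u v ⟨a, ha, rfl⟩ ⟨b, hb, rfl⟩
    exact ⟨fun i => a i + b i, fun i => S.add_mem (ha i) (hb i), by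
      simp only [smul_add, Finset.sum_add_distrib]⟩

variable (hπ : ∀ (j m : ℕ) (h : j ≤ m) (x : M), tm N h (π m x) = π j x)
  (hglue : ∀ s : ∀ j, N.obj (op j), (∀ (j m : ℕ) (h : j ≤ m), tm N h (s m) = s j) → ∃ x, ∀ j, π j x = s j)
  (hsep : ∀ x : M, (∀ j, π j x = 0) → x = 0)
  (hsurj : ∀ j : ℕ, Function.Surjective (tm N (Nat.le_succ j)))

include hsurj hglue in
theorem surjective_π (n : ℕ) : Function.Surjective (π n) := by
  intro y
  let b : ∀ k, N.obj (op (n + k)) := fun k => Nat.rec y (fun k bk => (hsurj (n + k) bk).choose) k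
  have hb : ∀ k, tm N (Nat.le_succ (n + k)) (b (k + 1)) = b k := fun k => (hsurj (n + k) (b k)).choose_spec
  have hbk : ∀ k k' (hk : k ≤ k'), tm N (Nat.add_le_add_left hk n) (b k') = b k := by
    intro k k' hk
    induction hk with
    | refl => exact tm_self N _
    | @step m hm ih =>
      rw [← ih, ← hb m, tm_tm]
  obtain ⟨x, hx⟩ := hglue (fun m => tm N (Nat.le_add_left m n) (b m)) (fun j m h => by
    rw [tm_tm, ← hbk j m h, tm_tm])
  refine ⟨x, (hx n).trans ?_⟩
  conv_rhs => rw [show y = b 0 from rfl, ← hbk 0 n (Nat.zero_le n)]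

include hπ hglue hsep hsurj in
/-- Elements of the limit vanishing at stage `n` lie in `I ^ (n + 1)` times the limit. -/
theorem mem_smul_of_eq_zero (hI : I.FG)
    (hkill : ∀ (j : ℕ) (c : Λ), c ∈ I ^ (j + 1) → ∀ z : N.obj (op j), c • z = 0)
    (hker : ∀ (j m : ℕ) (h : j ≤ m) (z : N.obj (op m)), tm N h z = 0 →
      z ∈ I ^ (j + 1) • (⊤ : Submodule Λ (N.obj (op m))))
    (n : ℕ) (x : M) (hx : π n x = 0) : x ∈ I ^ (n + 1) • (⊤ : Submodule Λ M) := by
  obtain ⟨r, f, hf⟩ := Submodule.fg_iff_exists_fin_generating_family.1 (hI.pow (n := n + 1))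
  have hkill' : ∀ (j k : ℕ) (z : M), j < k → z ∈ I ^ k • (⊤ : Submodule Λ M) → π j z = 0 := by
    intro j k z hjk hz
    refine Submodule.smul_induction_on hz (fun c hc u _ => ?_) (fun u v hu hv => by rw [map_add, hu, hv, add_zero])
    rw [map_smul]
    exact hkill j c (Ideal.pow_le_pow_right hjk hc) _
  -- one step of the successive approximation
  have step : ∀ (k : ℕ) (w : M), ∃ a : Fin r → M, π (n + k) w = 0 →
      (∀ i, a i ∈ I ^ k • (⊤ : Submodule Λ M)) ∧ π (n + k + 1) (w - ∑ i, f i • a i) = 0 := by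
    intro k w
    by_cases hw : π (n + k) w = 0
    · have h1 := hker (n + k) (n + k + 1) (Nat.le_succ _) (π (n + k + 1) w) (by rw [hπ, hw])
      rw [show n + k + 1 = n + 1 + k by omega, pow_add, Submodule.mul_smul,
        show n + 1 + k = n + k + 1 by omega, ← hf] at h1
      obtain ⟨b, hb, hbs⟩ := mem_span_range_smul f _ h1
      have : ∀ i, ∃ a ∈ I ^ k • (⊤ : Submodule Λ M), π (n + k + 1) a = b i := fun i => by
        have h := hb i
        rw [← LinearMap.range_eq_top.2 (surjective_π N M π hglue hsurj (n + k + 1)), LinearMap.range_eq_map,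
          ← Submodule.map_smul''] at h
        exact h
      choose a ha hab using this
      exact ⟨a, fun _ => ⟨ha, by simp [map_sum, hab, hbs]⟩⟩
    · exact ⟨0, fun h => absurd h hw⟩
  choose a ha using step
  let W : ℕ → M := fun k => Nat.rec x (fun k w => w - ∑ i, f i • a k w i) k
  have hW : ∀ k, π (n + k) (W k) = 0 := fun k => by
    induction k with
    | zero => exact hx
    | succ k ih => exact (ha k (W k) ih).2
  let P : ℕ → Fin r → M := fun K i => ∑ k ∈ Finset.range K, a k (W k) i
  have hWP : ∀ K, W K = x - ∑ i, f i • P K i := fun K => by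
    induction K with
    | zero => simp [P, W]
    | succ K ih =>
      have h : ∀ i, P (K + 1) i = P K i + a K (W K) i := fun i => Finset.sum_range_succ _ _
      simp only [h, smul_add, Finset.sum_add_distrib, ← sub_sub, ← ih]
      rfl
  have hP : ∀ (j K : ℕ) (i : Fin r), j < K → π j (P K i) = π j (P (j + 1) i) := fun j K i hK => by
    induction hK with
    | refl => rfl
    | @step m hm ih =>
      simp only [P, Finset.sum_range_succ _ m, map_add] at ih ⊢
      rw [hkill' j m _ hm ((ha m (W m) (hW m)).1 i), add_zero]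
      exact ih
  have hy : ∀ i, ∃ y, ∀ j, π j y = π j (P (j + 1) i) := fun i => hglue _ fun j m h => by
    rw [hπ, hP j (m + 1) i (by omega)]
  choose y hy using hy
  have hxy : x = ∑ i, f i • y i := by
    refine sub_eq_zero.1 (hsep _ fun j => ?_)
    have h0 : π j (W (j + 1)) = 0 := by
      rw [← hπ j (n + (j + 1)) (by omega), hW, map_zero]
    have h1 := (congrArg (π j) (hWP (j + 1))).symm.trans h0
    simp only [map_sub, map_sum, map_smul] at h1 ⊢
    simpa [hy] using h1
  rw [hxy]
  exact Submodule.sum_mem _ fun i _ =>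
    Submodule.smul_mem_smul (hf ▸ Submodule.subset_span ⟨i, rfl⟩) Submodule.mem_top

end Groth.Agent.H18Adic
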